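import Mathlib

/-!
# The determinant of a split exact sequence `0 → N → M → Q → 0` with `N`, `M` free
-/

set_option autoImplicit false
universe u

open Module

namespace Groth.Agent.H4Det

variable {B : Type u} [CommRing B] {M : Type*} [AddCommGroup M] [Module B M]
  {Q : Type*} [AddCommGroup Q] [Module B Q]

/-- The top exterior power of a free module with a given basis. -/
noncomputable def topEquiv {n : ℕ} (b : Basis (Fin n) B M) : (⋀[B]^n M) ≃ₗ[B] B :=
  LinearEquiv.ofLinearMap (exteriorPower.alternatingMapLinearEquiv b.det)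
    (LinearMap.toSpanSingleton B (⋀[B]^n M) (exteriorPower.ιMulti B n b))
    (LinearMap.ext_ring (by
      simp [exteriorPower.alternatingMapLinearEquiv_apply_ιMulti, Basis.det_self]))
    (exteriorPower.linearMap_ext <| Module.Basis.ext_alternating b fun v hv => by
      have hv' : Function.Bijective v := Finite.injective_iff_bijective.1 hv
      let σ : Equiv.Perm (Fin n) := Equiv.ofBijective v hv'
      have e1 : (fun i => b (v i)) = (fun i => b i) ∘ σ := rfl
      simp only [LinearMap.compAlternatingMap_apply, LinearMap.comp_apply, LinearMap.id_apply,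
        exteriorPower.alternatingMapLinearEquiv_apply_ιMulti, LinearMap.toSpanSingleton_apply]
      rw [e1, AlternatingMap.map_perm, AlternatingMap.map_perm]
      simp [Basis.det_self])

theorem topEquiv_apply_ιMulti {n : ℕ} (b : Basis (Fin n) B M) (v : Fin n → M) :
    topEquiv b (exteriorPower.ιMulti B n v) = b.det v :=
  exteriorPower.alternatingMapLinearEquiv_apply_ιMulti _ _

theorem contract_map_eq_zero (d : Module.Dual B M) (s : Q →ₗ[B] M) (hd : d ∘ₗ s = 0)
    (x : ExteriorAlgebra B Q) :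
    CliffordAlgebra.contractLeft (Q := (0 : QuadraticForm B M)) d (ExteriorAlgebra.map s x) = 0 := by
  induction x using CliffordAlgebra.left_induction with
  | algebraMap r =>
    rw [AlgHom.commutes]
    exact CliffordAlgebra.contractLeft_algebraMap _ d r
  | add x y hx hy => rw [map_add, map_add, hx, hy, add_zero]
  | ι_mul x m hx =>
    rw [map_mul]
    rw [show ExteriorAlgebra.map s (CliffordAlgebra.ι (0 : QuadraticForm B Q) m) =
      CliffordAlgebra.ι (0 : QuadraticForm B M) (s m) from ExteriorAlgebra.map_apply_ι s m]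
    rw [CliffordAlgebra.contractLeft_ι_mul, hx, mul_zero, sub_zero,
      show d (s m) = 0 from LinearMap.congr_fun hd m, zero_smul]

theorem contract_ιMulti_mul_eq_zero {r : ℕ} (d : Module.Dual B M) (f : Fin r → M)
    (hf : ∀ j, d (f j) = 0) (y : ExteriorAlgebra B M)
    (hy : CliffordAlgebra.contractLeft (Q := (0 : QuadraticForm B M)) d y = 0) :
    CliffordAlgebra.contractLeft (Q := (0 : QuadraticForm B M)) d
      (ExteriorAlgebra.ιMulti B r f * y) = 0 := by
  induction r with
  | zero => rw [ExteriorAlgebra.ιMulti_zero_apply, one_mul, hy]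
  | succ r ih =>
    rw [ExteriorAlgebra.ιMulti_succ_apply, mul_assoc]
    erw [CliffordAlgebra.contractLeft_ι_mul]
    erw [ih (Matrix.vecTail f) (fun j => hf _)]
    rw [hf 0, zero_smul, mul_zero, sub_zero]

theorem exists_left_inverse (s : Q →ₗ[B] M) (π : M →ₗ[B] Q) (hπs : π ∘ₗ s = LinearMap.id) :
    ∀ {r : ℕ} (f : Fin r → M) (d : Fin r → Module.Dual B M),
      (∀ i j, d i (f j) = if i = j then 1 else 0) → (∀ i, d i ∘ₗ s = 0) →
      ∃ G : ExteriorAlgebra B M →ₗ[B] ExteriorAlgebra B Q,
        ∀ x, G (ExteriorAlgebra.ιMulti B r f * ExteriorAlgebra.map s x) = x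
  | 0, f, _, _, _ => by
    refine ⟨(ExteriorAlgebra.map π).toLinearMap, fun x => ?_⟩
    rw [ExteriorAlgebra.ιMulti_zero_apply, one_mul, AlgHom.toLinearMap_apply, ← AlgHom.comp_apply,
      ExteriorAlgebra.map_comp_map, hπs, ExteriorAlgebra.map_id, AlgHom.id_apply]
  | r + 1, f, d, hdf, hds => by
    obtain ⟨G, hG⟩ := exists_left_inverse s π hπs (Matrix.vecTail f) (fun i => d i.succ)
      (fun i j => by simp [Matrix.vecTail, hdf, Fin.succ_inj]) (fun i => hds _)
    refine ⟨G ∘ₗ CliffordAlgebra.contractLeft (Q := (0 : QuadraticForm B M)) (d 0), fun x => ?_⟩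
    have h1 : CliffordAlgebra.contractLeft (Q := (0 : QuadraticForm B M)) (d 0)
        (ExteriorAlgebra.ιMulti B (r + 1) f * ExteriorAlgebra.map s x) =
        ExteriorAlgebra.ιMulti B r (Matrix.vecTail f) * ExteriorAlgebra.map s x := by
      rw [ExteriorAlgebra.ιMulti_succ_apply, mul_assoc]
      erw [CliffordAlgebra.contractLeft_ι_mul]
      erw [contract_ιMulti_mul_eq_zero (d 0) (Matrix.vecTail f)
        (fun j => by simp [Matrix.vecTail, hdf, (Fin.succ_ne_zero j).symm]) _
        (contract_map_eq_zero _ s (hds 0) x)]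
      rw [hdf 0 0, if_pos rfl, one_smul, mul_zero, sub_zero]
    rw [LinearMap.comp_apply, h1, hG]

/-- Some `det [f, s q]` lies outside any given maximal ideal. -/
theorem exists_det_notMem {r k : ℕ} (bM : Basis (Fin (r + k)) B M) (f : Fin r → M)
    (d : Fin r → Module.Dual B M) (hdf : ∀ i j, d i (f j) = if i = j then 1 else 0)
    (s : Q →ₗ[B] M) (hds : ∀ i, d i ∘ₗ s = 0)
    (hspan : ∀ v : M, ∃ (c : Fin r → B) (q : Q), v = ∑ i, c i • f i + s q)
    (I : Ideal B) [I.IsMaximal] :
    ∃ q : Fin k → Q, bM.det (Fin.append f (s ∘ q)) ∉ I := by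
  classical
  letI : Field (B ⧸ I) := Ideal.Quotient.field I
  let mk : B →+* B ⧸ I := Ideal.Quotient.mk I
  let bar : M → (Fin (r + k) → B ⧸ I) := fun v i => mk (bM.repr v i)
  have bar_add : ∀ v w, bar (v + w) = bar v + bar w := fun v w => funext fun i => by simp [bar]
  have bar_smul : ∀ (c : B) v, bar (c • v) = mk c • bar v := fun c v => funext fun i => by simp [bar]
  have bar_sum : ∀ {ι : Type} (t : Finset ι) (g : ι → M), bar (∑ i ∈ t, g i) = ∑ i ∈ t, bar (g i) :=
    fun t g => funext fun i => by simp [bar, Finset.sum_apply]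
  -- the reduction of the dual vectors
  let L : (Fin (r + k) → B ⧸ I) →ₗ[B ⧸ I] (Fin r → B ⧸ I) :=
    LinearMap.pi fun i => ∑ l, mk (d i (bM l)) • LinearMap.proj l
  have hL : ∀ v, L (bar v) = fun i => mk (d i v) := fun v => funext fun i => by
    conv_rhs => rw [← bM.sum_repr v, map_sum, map_sum]
    simp [L, bar, LinearMap.sum_apply, mul_comm]
  let W : Submodule (B ⧸ I) (Fin (r + k) → B ⧸ I) :=
    { carrier := Set.range fun q => bar (s q)
      zero_mem' := ⟨0, funext fun i => by simp [bar]⟩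
      add_mem' := by
        rintro _ _ ⟨a, rfl⟩ ⟨b, rfl⟩
        exact ⟨a + b, by simp only [map_add, bar_add]⟩
      smul_mem' := by
        rintro c _ ⟨a, rfl⟩
        obtain ⟨c, rfl⟩ := Ideal.Quotient.mk_surjective c
        exact ⟨c • a, by simp only [map_smul, bar_smul]; rfl⟩ }
  have hsurj : Function.Surjective L := fun c => by
    choose c' hc' using fun i => Ideal.Quotient.mk_surjective (c i)
    refine ⟨bar (∑ i, c' i • f i), ?_⟩
    rw [hL]
    funext i
    simp [mk, hdf, hc']
  have hWker : W = LinearMap.ker L := by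
    refine le_antisymm ?_ ?_
    · rintro _ ⟨q, rfl⟩
      rw [LinearMap.mem_ker, hL]
      funext i
      have : d i (s q) = 0 := LinearMap.congr_fun (hds i) q
      simp [this]
    · intro v hv
      choose v' hv' using fun i => Ideal.Quotient.mk_surjective (v i)
      obtain ⟨w, rfl⟩ : ∃ w, bar w = v :=
        ⟨bM.repr.symm (Finsupp.equivFunOnFinite.symm v'), funext fun i => by simp [bar, mk, hv']⟩
      obtain ⟨c, q, rfl⟩ := hspan w
      refine ⟨q, ?_⟩
      have hc : ∀ i, mk (c i) = 0 := fun i => by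
        have h := congrFun ((hL _).symm.trans (LinearMap.mem_ker.1 hv)) i
        have h2 : d i (s q) = 0 := LinearMap.congr_fun (hds i) q
        simpa [hdf, h2] using h
      simp [bar_add, bar_sum, bar_smul, hc]
  have hW : finrank (B ⧸ I) W = k := by
    have h := L.finrank_range_add_finrank_ker
    rw [LinearMap.range_eq_top.2 hsurj, finrank_top, ← hWker, Module.finrank_fin_fun,
      Module.finrank_fin_fun] at h
    omega
  let bW : Basis (Fin k) (B ⧸ I) W := finBasisOfFinrankEq _ _ hW
  choose q hq using fun j => show ∃ q, bar (s q) = (bW j : Fin (r + k) → B ⧸ I) from (bW j).2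
  refine ⟨q, fun hmem => ?_⟩
  let v := Fin.append f (s ∘ q)
  have hspanv : ⊤ ≤ Submodule.span (B ⧸ I) (Set.range (bar ∘ v)) := by
    intro x _
    choose x' hx' using fun i => Ideal.Quotient.mk_surjective (x i)
    obtain ⟨w, rfl⟩ : ∃ w, bar w = x :=
      ⟨bM.repr.symm (Finsupp.equivFunOnFinite.symm x'), funext fun i => by simp [bar, mk, hx']⟩
    obtain ⟨c, p, rfl⟩ := hspan w
    rw [bar_add, bar_sum]
    refine add_mem (sum_mem fun i _ => ?_) ?_
    · rw [bar_smul]
      exact Submodule.smul_mem _ _ (Submodule.subset_span ⟨Fin.castAdd k i, by simp [v]⟩)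
    · have hp : bar (s p) ∈ W := ⟨p, rfl⟩
      have := congrArg (Subtype.val) (bW.sum_repr ⟨_, hp⟩)
      rw [show bar (s p) = _ from this.symm]
      simp only [AddSubmonoidClass.coe_finset_sum, SetLike.val_smul]
      exact sum_mem fun j _ => Submodule.smul_mem _ _
        (Submodule.subset_span ⟨Fin.natAdd r j, by simp [v, hq]⟩)
  have hli : LinearIndependent (B ⧸ I) (bar ∘ v) :=
    linearIndependent_of_top_le_span_of_card_eq_finrank hspanv (by simp)
  have hdet : mk (bM.det v) = Matrix.det (Matrix.of fun i j => bar (v j) i) := by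
    rw [Basis.det_apply, RingHom.map_det]
    rfl
  have hne : Matrix.det (Matrix.of fun i j => bar (v j) i) ≠ 0 := by
    rw [← isUnit_iff_ne_zero, ← Matrix.isUnit_iff_isUnit_det, ← Matrix.linearIndependent_cols_iff_isUnit]
    exact hli
  exact hne (hdet ▸ Ideal.Quotient.eq_zero_iff_mem.2 hmem)

/-- `⋀^{n-r} Q` is free of rank one, for a split exact sequence `0 → B^r → B^n → Q → 0`. -/
theorem nonempty_equiv {n r : ℕ} (hrn : r ≤ n) {N : Type*} [AddCommGroup N] [Module B N]
    (bM : Basis (Fin n) B M) (bN : Basis (Fin r) B N) (i : N →ₗ[B] M) (l : M →ₗ[B] N)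
    (hl : l ∘ₗ i = LinearMap.id) (π : M →ₗ[B] Q) (hπ : Function.Surjective π)
    (hex : Function.Exact i π) : Nonempty ((⋀[B]^(n - r) Q) ≃ₗ[B] B) := by
  classical
  obtain ⟨k, rfl⟩ : ∃ k, n = r + k := ⟨n - r, by omega⟩
  rw [Nat.add_sub_cancel_left]
  have hli : ∀ x, l (i x) = x := fun x => LinearMap.congr_fun hl x
  let P : M →ₗ[B] M := LinearMap.id - i ∘ₗ l
  have hP : LinearMap.ker π ≤ LinearMap.ker P := fun v hv => by
    obtain ⟨x, rfl⟩ := (hex v).1 hv
    simp [P, hli]
  let s : Q →ₗ[B] M :=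
    (LinearMap.ker π).liftQ P hP ∘ₗ (π.quotKerEquivOfSurjective hπ).symm.toLinearMap
  have hs : ∀ v, s (π v) = v - i (l v) := fun v => by
    simp only [s, LinearMap.comp_apply, LinearEquiv.coe_coe]
    rw [show π v = π.quotKerEquivOfSurjective hπ (Submodule.Quotient.mk v) from rfl,
      LinearEquiv.symm_apply_apply]
    rfl
  have hπi : ∀ x, π (i x) = 0 := fun x => hex.apply_apply_eq_zero x
  have hπs : π ∘ₗ s = LinearMap.id := LinearMap.ext fun q => by
    obtain ⟨v, rfl⟩ := hπ q
    simp [hs, hπi]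
  let f : Fin r → M := fun j => i (bN j)
  let d : Fin r → Module.Dual B M := fun j => bN.coord j ∘ₗ l
  have hdf : ∀ a b, d a (f b) = if a = b then 1 else 0 := fun a b => by
    simp [d, f, hli, Finsupp.single_apply, eq_comm]
  have hds : ∀ a, d a ∘ₗ s = 0 := fun a => LinearMap.ext fun q => by
    obtain ⟨v, rfl⟩ := hπ q
    simp [d, hs, hli]
  have hspan : ∀ v : M, ∃ (c : Fin r → B) (q : Q), v = ∑ j, c j • f j + s q := fun v =>
    ⟨fun j => bN.repr (l v) j, π v, by
      simp only [f, ← map_smul, ← map_sum, Basis.sum_repr, hs, add_sub_cancel]⟩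
  let F : (⋀[B]^k Q) →ₗ[B] (⋀[B]^(r + k) M) :=
    LinearMap.codRestrict _
      ((LinearMap.mulLeft B (ExteriorAlgebra.ιMulti B r f)) ∘ₗ
        (ExteriorAlgebra.map s).toLinearMap ∘ₗ (⋀[B]^k Q).subtype)
      (fun x => by
        refine SetLike.mul_mem_graded (A := fun j : ℕ => ⋀[B]^j M)
          (ExteriorAlgebra.ιMulti_range B r ⟨f, rfl⟩) ?_
        show ExteriorAlgebra.map s (x : ExteriorAlgebra B Q) ∈ ⋀[B]^k M
        have h := x.2
        have hx : (x : ExteriorAlgebra B Q) ∈ Submodule.span B (Set.range (ExteriorAlgebra.ιMulti B k)) := by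
          rw [ExteriorAlgebra.ιMulti_span_fixedDegree]
          exact h
        have h2 := Submodule.mem_map_of_mem (f := (ExteriorAlgebra.map s).toLinearMap) hx
        rw [Submodule.map_span] at h2
        refine (Submodule.span_le (p := ⋀[B]^k M)).2 ?_ h2
        rintro _ ⟨_, ⟨q, rfl⟩, rfl⟩
        rw [AlgHom.toLinearMap_apply, ExteriorAlgebra.map_apply_ιMulti]
        exact ExteriorAlgebra.ιMulti_range B k ⟨_, rfl⟩)
  have hF : ∀ q : Fin k → Q,
      F (exteriorPower.ιMulti B k q) = exteriorPower.ιMulti B (r + k) (Fin.append f (s ∘ q)) := by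
    intro q
    refine Subtype.ext ?_
    show ExteriorAlgebra.ιMulti B r f * ExteriorAlgebra.map s (ExteriorAlgebra.ιMulti B k q) =
      ExteriorAlgebra.ιMulti B (r + k) (Fin.append f (s ∘ q))
    rw [ExteriorAlgebra.map_apply_ιMulti]
    simp only [ExteriorAlgebra.ιMulti_apply]
    rw [← List.prod_append, ← List.ofFn_fin_append]
    congr 2
    funext j
    refine Fin.addCases (fun a => ?_) (fun a => ?_) j <;> simp
  let φ : (⋀[B]^k Q) →ₗ[B] B := (topEquiv bM).toLinearMap ∘ₗ F
  refine ⟨LinearEquiv.ofBijective φ ⟨?_, ?_⟩⟩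
  · obtain ⟨G, hG⟩ := exists_left_inverse s π hπs f d hdf hds
    intro x y hxy
    have h : F x = F y := (topEquiv bM).injective hxy
    have h2 := congrArg (fun z : (⋀[B]^(r + k) M) => G z.1) h
    change G (ExteriorAlgebra.ιMulti B r f * ExteriorAlgebra.map s x.1) =
      G (ExteriorAlgebra.ιMulti B r f * ExteriorAlgebra.map s y.1) at h2
    rw [hG, hG] at h2
    exact Subtype.ext h2
  · rw [← LinearMap.range_eq_top]
    by_contra hne
    obtain ⟨I, hI, hle⟩ := Ideal.exists_le_maximal _ hne
    obtain ⟨q, hq⟩ := exists_det_notMem bM f d hdf s hds hspan I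
    refine hq (hle ⟨exteriorPower.ιMulti B k q, ?_⟩)
    show topEquiv bM (F _) = _
    rw [hF, topEquiv_apply_ιMulti]

end Groth.Agent.H4Det
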